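import Mathlib.LinearAlgebra.Lagrange
import Mathlib.FieldTheory.Finite.Basic
import Mathlib.Algebra.Module.ZMod
import Mathlib.RingTheory.Etale.Field
import Groth.Agent.Lefpen.H332.Jacobson

/-!
# The operator `w ↦ w ^ p + D ^ (p-1) w - w` for the derivation `α d/dα` of `A[α]`, `α ^ p ∈ A`

`B` an algebra over `A` of characteristic `p` with a basis `1, α, …, α ^ (p-1)`, `α` a unit, `α ^ p ∈ A`, and `D` the
`A`-derivation with `D α = α`.
-/

set_option autoImplicit false

namespace K236.AS

open Groth.Agent.Lefpen.H332.Jacobson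

/-! ### Eigenspaces of an operator with `N ^ p = N` -/

section eig

open Polynomial

variable {p : ℕ} [hp : Fact p.Prime]

theorem prod_X_sub : (∏ i : ZMod p, (X - C i) : (ZMod p)[X]) = X ^ p - X := by
  have h1 := FiniteField.roots_X_pow_card_sub_X (ZMod p)
  rw [ZMod.card] at h1
  have h2 : (X ^ p - X : (ZMod p)[X]).Monic := monic_X_pow_sub (by
    rw [degree_X]; exact_mod_cast hp.out.one_lt)
  have h3 := prod_multiset_X_sub_C_of_monic_of_roots_card_eq h2 (by
    rw [h1, FiniteField.X_pow_card_sub_X_natDegree_eq (ZMod p) hp.out.one_lt]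
    change Finset.card Finset.univ = p
    rw [Finset.card_univ, ZMod.card])
  rw [h1] at h3
  exact h3

theorem exists_eigen_aux {M : Type*} [AddCommGroup M] [Module (ZMod p) M] (T : Module.End (ZMod p) M)
    (hT : T ^ p = T) (x : M) :
    ∃ e : ZMod p → M, (∀ i, T (e i) = i.val • e i) ∧ ∑ i, e i = x := by
  let L : ZMod p → (ZMod p)[X] := fun i => Lagrange.basis Finset.univ id i
  have hL : ∀ i, (X - C i) * L i = C (Lagrange.nodalWeight Finset.univ id i) * (X ^ p - X) := by
    intro i
    change (X - C i) * Lagrange.basis Finset.univ id i = _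
    rw [Lagrange.basis_eq_prod_sub_inv_mul_nodal_div (Finset.mem_univ i)]
    rw [← Lagrange.nodal_erase_eq_nodal_div (Finset.mem_univ i), mul_left_comm]
    congr 1
    rw [Lagrange.nodal, ← prod_X_sub, ← Finset.mul_prod_erase _ _ (Finset.mem_univ i)]
    rfl
  have hk : aeval T (X ^ p - X : (ZMod p)[X]) = 0 := by
    rw [map_sub, map_pow, aeval_X, hT, sub_self]
  refine ⟨fun i => aeval T (L i) x, fun i => ?_, ?_⟩
  · have h1 := congrArg (fun q => aeval T q x) (hL i)
    simp only [map_mul, map_sub, aeval_X, aeval_C, hk, mul_zero] at h1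
    rw [Module.End.mul_apply, LinearMap.sub_apply, LinearMap.zero_apply, sub_eq_zero,
      Module.algebraMap_end_apply] at h1
    have h2 : ∀ y : M, i • y = i.val • y := fun y => by
      rw [← Nat.cast_smul_eq_nsmul (ZMod p), ZMod.natCast_zmod_val]
    rw [h1, h2]
  · rw [← LinearMap.sum_apply, ← map_sum]
    have : ∑ i, L i = 1 := Lagrange.sum_basis (Function.injective_id.injOn) Finset.univ_nonempty
    rw [this, map_one]
    rfl

theorem exists_eigen {M : Type*} [AddCommGroup M] (h0 : ∀ x : M, p • x = 0)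
    (N : M →+ M) (hN : ∀ x, N^[p] x = N x) (x : M) :
    ∃ e : ZMod p → M, (∀ i, N (e i) = i.val • e i) ∧ ∑ i, e i = x := by
  have : NeZero p := ⟨hp.out.ne_zero⟩
  let _inst : Module (ZMod p) M := AddCommGroup.zmodModule h0
  refine exists_eigen_aux (AddMonoidHom.toZModLinearMap p N) ?_ x
  refine LinearMap.ext fun y => ?_
  rw [Module.End.pow_apply]
  exact hN y

end eig

/-! ### The algebra `A[α]` -/

/-- `B = A[α]` with basis `1, …, α ^ (p-1)` and the derivation `α d/dα`. -/
structure Dat (p : ℕ) (A B : Type*) [CommRing A] [CommRing B] [Algebra A B] (D : Derivation ℤ B B) (α : B) (a : A) :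
    Prop where
  prime : p.Prime
  char : (p : B) = 0
  unit : IsUnit α
  pow : α ^ p = algebraMap A B a
  der : D α = α
  der_map : ∀ c : A, D (algebraMap A B c) = 0
  span : ∀ b : B, ∃ c : Fin p → A, b = ∑ i, algebraMap A B (c i) * α ^ (i : ℕ)
  indep : ∀ c : Fin p → A, ∑ i, algebraMap A B (c i) * α ^ (i : ℕ) = 0 → ∀ i, c i = 0

/-- The operator `w ↦ w ^ p + D ^ (p-1) w - w`. -/
def phi {B : Type*} [CommRing B] (p : ℕ) (D : Derivation ℤ B B) (w : B) : B := w ^ p + D^[p - 1] w - w

namespace Dat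

variable {p : ℕ} {A B : Type*} [CommRing A] [CommRing B] [Algebra A B] {D : Derivation ℤ B B} {α : B} {a : A}
  (h : Dat p A B D α a)
include h

theorem D_pow (n : ℕ) : D (α ^ n) = n • α ^ n := by
  rcases n with _ | n
  · simp
  · rw [Derivation.leibniz_pow, h.der]
    simp [pow_succ]

theorem D_iter (m : ℕ) (c : A) (n : ℕ) : D^[m] (algebraMap A B c * α ^ n) = n ^ m • (algebraMap A B c * α ^ n) := by
  induction m with
  | zero => simp
  | succ m ih =>
    rw [Function.iterate_succ_apply', ih, map_nsmul, Derivation.leibniz, h.D_pow, h.der_map, smul_zero, add_zero,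
      pow_succ, mul_smul, smul_eq_mul, mul_smul_comm]

omit [CommRing A] [Algebra A B] h in
theorem iter_add (m : ℕ) (x y : B) : D^[m] (x + y) = D^[m] x + D^[m] y := by
  rw [← op_pow_apply, ← op_pow_apply, ← op_pow_apply, map_add]

omit [CommRing A] [Algebra A B] h in
theorem iter_sum (m : ℕ) {ι : Type*} (s : Finset ι) (f : ι → B) : D^[m] (∑ i ∈ s, f i) = ∑ i ∈ s, D^[m] (f i) := by
  rw [← op_pow_apply, map_sum]
  exact Finset.sum_congr rfl fun i _ => op_pow_apply D m (f i)

theorem fact : Fact p.Prime := ⟨h.prime⟩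

theorem nsmul_zero (x : B) : p • x = 0 := by
  rw [nsmul_eq_mul, h.char, zero_mul]

theorem nsmul_mod (n : ℕ) (x : B) : n • x = (n % p) • x := by
  conv_lhs => rw [← Nat.div_add_mod n p, add_smul, mul_comm, mul_smul, h.nsmul_zero, smul_zero, zero_add]

theorem pow_smul (n : ℕ) (x : B) : n ^ p • x = n • x := by
  have := h.fact
  have h1 : n ^ p % p = n % p := by
    have h2 : ((n ^ p : ℕ) : ZMod p) = (n : ZMod p) := by
      push_cast
      exact ZMod.pow_card _
    exact (ZMod.natCast_eq_natCast_iff' _ _ _).mp h2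
  rw [h.nsmul_mod (n ^ p), h1, ← h.nsmul_mod]

/-- `D ^ p = D`. -/
theorem D_p (x : B) : D^[p] x = D x := by
  obtain ⟨c, rfl⟩ := h.span x
  rw [iter_sum, map_sum]
  refine Finset.sum_congr rfl fun i _ => ?_
  have h1 := h.D_iter 1 (c i) i
  rw [pow_one, Function.iterate_one] at h1
  rw [h.D_iter, h1, h.pow_smul]

/-- The kernel of `D` is `A`. -/
theorem mem_of_D {x : B} (hx : D x = 0) : ∃ c : A, algebraMap A B c = x := by
  have := h.fact
  obtain ⟨c, rfl⟩ := h.span x
  rw [map_sum] at hx
  have h1 : ∑ i : Fin p, algebraMap A B ((i : ℕ) • c i) * α ^ (i : ℕ) = 0 := by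
    rw [← hx]
    refine Finset.sum_congr rfl fun i _ => ?_
    have h2 := h.D_iter 1 (c i) i
    rw [pow_one, Function.iterate_one] at h2
    rw [h2, map_nsmul, smul_mul_assoc]
  have h3 := h.indep _ h1
  have hpA : ∀ y : A, (p : ℕ) • y = 0 := by
    intro y
    have h4 : ∑ i : Fin p, algebraMap A B (if (i : ℕ) = 0 then (p : ℕ) • y else 0) * α ^ (i : ℕ) = 0 := by
      refine Finset.sum_eq_zero fun i _ => ?_
      split_ifs
      · rw [map_nsmul, smul_mul_assoc, h.nsmul_zero]
      · rw [map_zero, zero_mul]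
    exact (h.indep _ h4 ⟨0, h.prime.pos⟩)
  have h5 : ∀ i : Fin p, (i : ℕ) ≠ 0 → c i = 0 := by
    intro i hi
    have hco : Nat.Coprime (i : ℕ) p := (Nat.coprime_of_lt_prime hi i.2 h.prime).symm
    obtain ⟨u, v, huv⟩ := Nat.isCoprime_iff_coprime.mpr hco
    have h6 : c i = (1 : ℤ) • c i := (one_smul _ _).symm
    rw [h6, ← huv, add_smul, mul_smul, mul_smul]
    have h7 : ((i : ℕ) : ℤ) • c i = 0 := by rw [natCast_zsmul]; exact h3 i
    have h8 : ((p : ℕ) : ℤ) • c i = 0 := by rw [natCast_zsmul]; exact hpA _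
    rw [h7, h8, smul_zero, smul_zero, add_zero]
  refine ⟨c ⟨0, h.prime.pos⟩, ?_⟩
  rw [Finset.sum_eq_single (⟨0, h.prime.pos⟩ : Fin p)]
  · simp
  · intro i _ hi
    rw [h5 i (fun h0 => hi (Fin.ext h0)), map_zero, zero_mul]
  · intro h0
    exact absurd (Finset.mem_univ _) h0

theorem inj : Function.Injective (algebraMap A B) := by
  have := h.fact
  rw [injective_iff_map_eq_zero]
  intro c hc
  have h4 : ∑ i : Fin p, algebraMap A B (if (i : ℕ) = 0 then c else 0) * α ^ (i : ℕ) = 0 := by
    refine Finset.sum_eq_zero fun i _ => ?_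
    split_ifs
    · rw [hc, zero_mul]
    · rw [map_zero, zero_mul]
  exact (h.indep _ h4 ⟨0, h.prime.pos⟩)

theorem add_pow (x y : B) : (x + y) ^ p = x ^ p + y ^ p := by
  have := h.fact
  rcases subsingleton_or_nontrivial B with hB | hB
  · exact Subsingleton.elim _ _
  · have : CharP B p := (CharP.charP_iff_prime_eq_zero h.prime).mpr h.char
    exact _root_.add_pow_char x y p

theorem sum_pow {ι : Type*} (s : Finset ι) (f : ι → B) : (∑ i ∈ s, f i) ^ p = ∑ i ∈ s, f i ^ p := by
  have := h.fact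
  rcases subsingleton_or_nontrivial B with hB | hB
  · exact Subsingleton.elim _ _
  · have : CharP B p := (CharP.charP_iff_prime_eq_zero h.prime).mpr h.char
    exact sum_pow_char p s f

theorem D_pow_p (x : B) : D (x ^ p) = 0 := by
  rw [Derivation.leibniz_pow, h.nsmul_zero]

/-- `B ^ p` is contained in `A`. -/
theorem pow_mem (x : B) : ∃ c : A, algebraMap A B c = x ^ p := h.mem_of_D (h.D_pow_p x)

theorem D_iter_pred (x : B) : D (D^[p - 1] x) = D x := by
  rw [← Function.iterate_succ_apply' (⇑D), Nat.succ_eq_add_one, Nat.sub_add_cancel h.prime.one_le]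
  exact h.D_p x

/-- The values of `phi` are in `A`. -/
theorem phi_mem (w : B) : ∃ c : A, algebraMap A B c = phi p D w := by
  refine h.mem_of_D ?_
  rw [phi, map_sub, map_add, h.D_pow_p, h.D_iter_pred, zero_add, sub_self]

theorem phi_add (x y : B) : phi p D (x + y) = phi p D x + phi p D y := by
  rw [phi, phi, phi, h.add_pow, iter_add]
  ring

theorem phi_zero : phi p D (0 : B) = 0 := by
  have h1 := h.phi_add 0 0
  rw [add_zero] at h1
  exact (left_eq_add.mp h1)

theorem phi_neg (x : B) : phi p D (-x) = - phi p D x := by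
  have h1 := h.phi_add x (-x)
  rw [add_neg_cancel, h.phi_zero] at h1
  exact (neg_eq_of_add_eq_zero_right h1.symm).symm

theorem phi_sub (x y : B) : phi p D (x - y) = phi p D x - phi p D y := by
  rw [sub_eq_add_neg, h.phi_add, h.phi_neg, ← sub_eq_add_neg]

/-- `(D - w) ^ p = D - (w ^ p + D ^ (p-1) w)`. -/
theorem conn_pow (w y : B) : (fun z => D z - w * z)^[p] y = D y - (phi p D w + w) * y := by
  have := h.fact
  have h1 := op_add_mu_pow p h.char D (-w)
  have h2 := congrArg (fun T : Module.End ℤ B => T y) h1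
  simp only [LinearMap.add_apply, mu_apply] at h2
  rw [Module.End.pow_apply, op_pow_apply, h.D_p] at h2
  have h3 : (⇑(op D + mu (-w)) : B → B) = fun z => D z - w * z := by
    funext z
    change D z + (-w) * z = _
    ring
  rw [h3] at h2
  rw [h2]
  have h4 : D^[p - 1] (-w) = - D^[p - 1] w := by
    rw [← op_pow_apply, map_neg, op_pow_apply]
  have h5 : (-w) ^ p = - w ^ p := by
    have h6 := h.add_pow w (-w)
    rw [add_neg_cancel, zero_pow h.prime.ne_zero] at h6
    exact (neg_eq_of_add_eq_zero_right h6.symm).symm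
  rw [h4, h5, phi]
  ring

/-- Logarithmic derivatives are killed by `phi`. -/
theorem phi_dlog {u w : B} (hu : IsUnit u) (hw : D u = w * u) : phi p D w = 0 := by
  have h1 := h.conn_pow w u
  have h2 : ∀ n : ℕ, 1 ≤ n → (fun z => D z - w * z)^[n] u = 0 := by
    intro n hn
    induction n, hn using Nat.le_induction with
    | base => rw [Function.iterate_one, hw, sub_self]
    | succ n hn ih => rw [Function.iterate_succ_apply', ih, map_zero, mul_zero, sub_zero]
  rw [h2 p h.prime.one_le, hw, add_mul] at h1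
  have h3 : phi p D w * u = 0 := by linear_combination h1
  exact (hu.mul_left_eq_zero).mp h3

/-- If `phi w = 0` then `w` is a logarithmic derivative locally on `A`. -/
theorem exists_sol {w : B} (hw : phi p D w = 0) :
    ∃ (b : ZMod p → B) (g c : ZMod p → A), (∀ i, D (b i) = w * b i) ∧ (∀ i, algebraMap A B (g i) = b i ^ p) ∧
      (Finset.sum (@Finset.univ (ZMod p) (@ZMod.fintype p ⟨h.prime.ne_zero⟩)) fun i => c i * g i) = 1 := by
  have := h.fact
  let N : B →+ B := (op D + mu (-w)).toAddMonoidHom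
  have hN : ∀ z, N z = D z - w * z := fun z => by
    change D z + (-w) * z = _
    ring
  have hNp : ∀ x, N^[p] x = N x := by
    intro x
    have h3 : (⇑N : B → B) = fun z => D z - w * z := funext hN
    rw [h3, h.conn_pow, hw, zero_add]
  obtain ⟨e, he, hs⟩ := exists_eigen h.nsmul_zero N hNp 1
  obtain ⟨β, hβ⟩ := h.unit.exists_right_inv
  have hDβ : ∀ n : ℕ, D (β ^ n) = - (n • β ^ n) := by
    intro n
    have h1 : D (α ^ n * β ^ n) = 0 := by
      rw [← mul_pow, hβ, one_pow, Derivation.map_one_eq_zero]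
    rw [Derivation.leibniz, h.D_pow, smul_eq_mul, smul_eq_mul] at h1
    have h2 : β ^ n * (α ^ n * D (β ^ n) + β ^ n * n • α ^ n) = 0 := by rw [h1, mul_zero]
    have h3 : β ^ n * α ^ n = 1 := by rw [← mul_pow, mul_comm β α, hβ, one_pow]
    rw [nsmul_eq_mul] at h2 ⊢
    linear_combination h2 - (D (β ^ n) + β ^ n * (n : B)) * h3
  choose g hg using fun x : B => h.pow_mem x
  refine ⟨fun i => β ^ i.val * e i, fun i => g (β ^ i.val * e i), fun i => a ^ i.val, fun i => ?_, fun i => hg _, ?_⟩
  · have h1 := he i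
    rw [hN, nsmul_eq_mul] at h1
    rw [Derivation.leibniz, hDβ, smul_eq_mul, smul_eq_mul, nsmul_eq_mul]
    linear_combination β ^ i.val * h1
  · apply h.inj
    rw [map_sum, map_one, ← one_pow p, ← hs, h.sum_pow]
    refine Finset.sum_congr rfl fun i _ => ?_
    have h1 : α ^ i.val * β ^ i.val = 1 := by rw [← mul_pow, hβ, one_pow]
    have h2 : (α ^ p) ^ i.val = (α ^ i.val) ^ p := by rw [← pow_mul, ← pow_mul, mul_comm]
    rw [map_mul, hg, map_pow, ← h.pow, h2, ← mul_pow, ← mul_assoc, h1, one_mul]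

end Dat

end K236.AS
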