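import Groth.Agent.Dix.K600.AtDef
import Groth.Agent.S5687
import Groth.Agent.S5062
import Groth.Agent.Fga.EulerLEAdd
import Groth.Prelude.Def_PicLoc

/-!
# Classes over strictly henselian rings come from smooth algebras

`X` proper of dimension at most one over a field `k`, `P` the relative Picard scheme.  Every invertible class on
`X_T`, `T` a strictly henselian local `k`-algebra, is the pull-back of a class on `X_Q`, `Q` a smooth `k`-algebra with
`Spec Q → P` étale.
-/

set_option autoImplicit false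
universe u

open CategoryTheory CategoryTheory.Limits AlgebraicGeometry K600.AtDef

namespace K236.Chart

section general

variable {S : Scheme.{u}} {X : Scheme.{u}} (f : X ⟶ S)

theorem XTmap_id (T : Over S) : PicF.XTmap f (𝟙 T) = 𝟙 _ := by
  apply pullback.hom_ext
  · exact (pullback.lift_fst _ _ _).trans (by rw [Category.comp_id, Category.id_comp])
  · exact (pullback.lift_snd _ _ _).trans (by rw [Category.id_comp]; exact Category.comp_id _)

theorem XTmap_comp {T T' T'' : Over S} (h : T'' ⟶ T') (g : T' ⟶ T) :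
    PicF.XTmap f (h ≫ g) = PicF.XTmap f h ≫ PicF.XTmap f g := by
  apply pullback.hom_ext
  · refine (pullback.lift_fst _ _ _).trans ?_
    rw [Category.assoc]
    refine Eq.trans ?_ (congrArg (fun z => PicF.XTmap f h ≫ z) (pullback.lift_fst _ _ _).symm)
    refine Eq.trans ?_ (congrArg (fun z => z ≫ 𝟙 X) (pullback.lift_fst _ _ _).symm)
    simp only [Category.comp_id]
  · refine (pullback.lift_snd _ _ _).trans ?_
    rw [Category.assoc]
    refine Eq.trans ?_ (congrArg (fun z => PicF.XTmap f h ≫ z) (pullback.lift_snd _ _ _).symm)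
    refine Eq.trans ?_ (congrArg (fun z => z ≫ g.left) (pullback.lift_snd _ _ _).symm)
    rw [Category.assoc, Over.comp_left]

/-- Pull-back of classes along maps of the base. -/
theorem pull_comp {T T' T'' : Over S} (h : T'' ⟶ T') (g : T' ⟶ T) (c : PicF.Cl (PicF.XT f T)) :
    PicF.pullCl (PicF.XTmap f (h ≫ g)) c = PicF.pullCl (PicF.XTmap f h) (PicF.pullCl (PicF.XTmap f g) c) := by
  rw [XTmap_comp, PicLoc.pullCl_comp]

theorem pull_id {T : Over S} (c : PicF.Cl (PicF.XT f T)) :
    PicF.pullCl (PicF.XTmap f (𝟙 T)) c = c := by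
  rw [XTmap_id, PicLoc.pullCl_id]

end general

section local_

variable {S : Scheme.{u}} {X : Scheme.{u}} (f : X ⟶ S) (T : Type u) [CommRing T] [HenselianLocalRing T]
  [IsSepClosed (IsLocalRing.ResidueField T)] (g : Spec (CommRingCat.of T) ⟶ S)

/-- An étale neighbourhood of the closed point of a strictly henselian local scheme has a section. -/
theorem exists_sec {W : Scheme.{u}} (w : W ⟶ Spec (CommRingCat.of T)) [Etale w] (x : W)
    (hx : w x = IsLocalRing.closedPoint T) :
    ∃ s : Spec (CommRingCat.of T) ⟶ W, s ≫ w = 𝟙 _ ∧ s (IsLocalRing.closedPoint T) = x :=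
  Groth.Agent.S5062.forward T W w x hx

/-- Two invertible classes over a strictly henselian local ring with the same image in `P` are equal. -/
theorem eq_of_phi {P : Over S} {φ : ∀ T : Over S, PicF.Cl (PicF.XT f T) → (T ⟶ P)} (hφ : PicRel.IsRelPic f P φ)
    (c c' : PicF.Cl (PicF.XT f (Over.mk g))) (hc : PicF.IsInvertibleCl c) (hc' : PicF.IsInvertibleCl c')
    (h : φ _ c = φ _ c') : c = c' := by
  obtain ⟨ι, U, hU, hcc⟩ := hφ.locallyInjective _ c c' hc hc' h
  obtain ⟨i, y, hy⟩ := hU (IsLocalRing.closedPoint T)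
  have : Etale (U i).hom := (U i).prop
  obtain ⟨s, hs, -⟩ := exists_sec T (U i).hom y hy
  let σ : Over.mk g ⟶ PicRel.ovr (Over.mk g) (U i) := Over.homMk s (by
    change s ≫ (U i).hom ≫ g = g
    rw [← Category.assoc, hs]
    exact Category.id_comp _)
  have hσ : σ ≫ PicRel.ovrHom (Over.mk g) (U i) = 𝟙 _ := by
    ext1
    exact hs
  have h1 : ∀ d : PicF.Cl (PicF.XT f (Over.mk g)),
      PicF.pullCl (PicF.XTmap f σ) (PicF.pullCl (PicF.XTmap f (PicRel.ovrHom (Over.mk g) (U i))) d) = d := by
    intro d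
    rw [← pull_comp, hσ, pull_id]
  rw [← h1 c, ← h1 c', hcc i]

/-- Every morphism from a strictly henselian local scheme to `P` lifts to an étale neighbourhood carrying an
invertible class. -/
theorem exists_lift {P : Over S} {φ : ∀ T : Over S, PicF.Cl (PicF.XT f T) → (T ⟶ P)} (hφ : PicRel.IsRelPic f P φ)
    (t : Over.mk g ⟶ P) :
    ∃ (V : Over S) (e : V ⟶ P) (_ : Etale e.left) (c : PicF.Cl (PicF.XT f V)) (l : Over.mk g ⟶ V),
      PicF.IsInvertibleCl c ∧ φ V c = e ∧ l ≫ e = t := by
  obtain ⟨ι, U, hU, hc⟩ := hφ.locallySurjective P (𝟙 P)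
  obtain ⟨i, y, hy⟩ := hU (t.left (IsLocalRing.closedPoint T))
  obtain ⟨c, hc1, hc2⟩ := hc i
  have hE : Etale (U i).hom := (U i).prop
  obtain ⟨z, hz1, hz2⟩ := Scheme.Pullback.exists_preimage_pullback (f := t.left) (g := (U i).hom)
    (IsLocalRing.closedPoint T) y hy.symm
  have hE' : Etale (pullback.fst t.left (U i).hom) := inferInstance
  obtain ⟨s, hs, -⟩ := exists_sec T (pullback.fst t.left (U i).hom) z hz1
  refine ⟨PicRel.ovr P (U i), PicRel.ovrHom P (U i), hE, c,
    Over.homMk (s ≫ pullback.snd t.left (U i).hom) ?_, hc1, ?_, ?_⟩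
  · change (s ≫ pullback.snd t.left (U i).hom) ≫ (U i).hom ≫ P.hom = g
    rw [Category.assoc, ← pullback.condition_assoc, reassoc_of% hs]
    exact Over.w t
  · rw [hc2, Category.comp_id]
  · ext1
    change (s ≫ pullback.snd t.left (U i).hom) ≫ (U i).hom = t.left
    rw [Category.assoc, ← pullback.condition, reassoc_of% hs]

end local_

/-- The Picard scheme of a proper curve over a field is smooth. -/
theorem smooth_pic {k : Type u} [Field k] {X : Scheme.{u}} (f : X ⟶ Spec (CommRingCat.of k)) [IsProper f]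
    (hdim : topologicalKrullDim X ≤ 1) (P : Over (Spec (CommRingCat.of k)))
    (φ : ∀ T : Over (Spec (CommRingCat.of k)), PicF.Cl (PicF.XT f T) → (T ⟶ P)) (hφ : PicRel.IsRelPic f P φ)
    [LocallyOfFiniteType P.hom] : Smooth P.hom := by
  let s : Spec (CommRingCat.of k) := IsLocalRing.closedPoint k
  have hsub : Subsingleton (Spec (CommRingCat.of k)) := inferInstanceAs (Subsingleton (PrimeSpectrum k))
  have hd : topologicalKrullDim ↥(f.fiber s) ≤ (1 : ℕ) := by
    refine le_trans (f.fiberι s).isEmbedding.isInducing.topologicalKrullDim_le ?_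
    exact_mod_cast hdim
  have hN : IsLocallyNoetherian (Spec (CommRingCat.of k)) := inferInstance
  have hNF : IsNoetherian (f.fiber s) := by
    have hft : LocallyOfFiniteType f := inferInstance
    have : LocallyOfFiniteType (f.fiberToSpecResidueField s) :=
      (MorphismProperty.IsStableUnderBaseChange.of_isPullback
        (P := (@LocallyOfFiniteType : MorphismProperty Scheme.{u}))
        (IsPullback.of_hasPullback f ((Spec (CommRingCat.of k)).fromSpecResidueField s)) hft :)
    have h1 : IsLocallyNoetherian (f.fiber s) :=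
      LocallyOfFiniteType.isLocallyNoetherian (f.fiberToSpecResidueField s)
    have h2 : CompactSpace (f.fiber s) := inferInstance
    exact {}
  have h2 : Subsingleton (Coh.HH (f.fiber s) (Coh.structureModule _) 2) :=
    Groth.Agent.Fga.EulerLEAdd.subsingleton_HH (f.fiber s) 1 hd _ 2 (by norm_num)
  obtain ⟨U, hU, hsm⟩ := Groth.Agent.S5687.result f P ⟨φ, hφ⟩ s h2
  have hUt : U = ⊤ := by
    ext x
    simp only [TopologicalSpace.Opens.coe_top, Set.mem_univ, iff_true]
    rw [Subsingleton.elim x s]
    exact hU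
  subst hUt
  have he : IsIso (P.hom ⁻¹ᵁ (⊤ : (Spec (CommRingCat.of k)).Opens)).ι :=
    inferInstanceAs (IsIso P.left.topIso.hom)
  have h3 : P.hom = inv (P.hom ⁻¹ᵁ (⊤ : (Spec (CommRingCat.of k)).Opens)).ι ≫
      ((P.hom ⁻¹ᵁ (⊤ : (Spec (CommRingCat.of k)).Opens)).ι ≫ P.hom) := (IsIso.inv_hom_id_assoc _ _).symm
  rw [h3]
  infer_instance

/-- Node J1. -/
theorem exists_chart {k : Type u} [Field k] {X : Scheme.{u}} (f : X ⟶ Spec (CommRingCat.of k)) [IsProper f]
    (hdim : topologicalKrullDim X ≤ 1)
    (P : Over (Spec (CommRingCat.of k)))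
    (φ : ∀ T : Over (Spec (CommRingCat.of k)), PicF.Cl (PicF.XT f T) → (T ⟶ P)) (hφ : PicRel.IsRelPic f P φ)
    [LocallyOfFiniteType P.hom] (T : Type u) [CommRing T] [Algebra k T] [HenselianLocalRing T]
    [IsSepClosed (IsLocalRing.ResidueField T)]
    (c : PicF.Cl (XE f T)) (hc : PicF.IsInvertibleCl c) :
    ∃ (Q : Type u) (_ : CommRing Q) (_ : Algebra k Q) (_ : Algebra.FinitePresentation k Q)
      (_ : Algebra.FormallySmooth k Q) (ψ : Q →ₐ[k] T) (cQ : PicF.Cl (XE f Q)),
      PicF.IsInvertibleCl cQ ∧ Etale (φ (sp k Q) cQ).left ∧ PicF.pullCl (gE f ψ) cQ = c := by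
  have hP : Smooth P.hom := smooth_pic f hdim P φ hφ
  obtain ⟨V, e, he, d, l, hd, hde, hle⟩ := exists_lift f T
    (Spec.map (CommRingCat.ofHom (algebraMap k T))) hφ (φ (sp k T) c)
  -- an affine neighbourhood of the image of the closed point
  obtain ⟨W, hW, hx, -⟩ := exists_isAffineOpen_mem_and_subset (X := V.left) (U := ⊤)
    (x := l.left (IsLocalRing.closedPoint T)) trivial
  have hr : Set.range l.left ⊆ Set.range W.ι := by
    rintro _ ⟨t, rfl⟩
    rw [Scheme.Opens.range_ι]
    exact (((IsLocalRing.specializes_closedPoint (R := T) t).map l.left.continuous).mem_open W.2 hx)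
  have hVs : Smooth V.hom := by
    rw [← Over.w e]
    infer_instance
  let Q : CommRingCat.{u} := Γ(V.left, W)
  let j : Spec Q ⟶ V.left := hW.fromSpec
  have hj : IsOpenImmersion j := inferInstance
  have hjr : Set.range j = (W : Set V.left) := hW.range_fromSpec
  let a : Spec Q ⟶ Spec (CommRingCat.of k) := j ≫ V.hom
  have ha : Smooth a := inferInstance
  let al : CommRingCat.of k ⟶ Q := Spec.preimage a
  have hal : Spec.map al = a := Spec.map_preimage a
  let : Algebra k Q := al.hom.toAlgebra
  have halg : CommRingCat.ofHom (algebraMap k Q) = al := rfl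
  have hsm : (algebraMap k Q).Smooth := by
    have h1 : Smooth (Spec.map al) := by rw [hal]; exact ha
    rw [HasRingHomProperty.Spec_iff (P := @Smooth)] at h1
    exact h1
  have hsm' : Algebra.Smooth k Q := by
    have h1 := (RingHom.smooth_def.mp hsm).1
    have h2 := (RingHom.smooth_def.mp hsm).2
    exact { formallySmooth := (RingHom.formallySmooth_algebraMap).mp h1
            finitePresentation := (RingHom.finitePresentation_algebraMap).mp h2 }
  let lj : Spec (CommRingCat.of T) ⟶ Spec Q := IsOpenImmersion.lift j l.left (by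
    rw [hjr]
    rwa [Scheme.Opens.range_ι] at hr)
  have hlj : lj ≫ j = l.left := IsOpenImmersion.lift_fac _ _ _
  let ψ' : Q ⟶ CommRingCat.of T := Spec.preimage lj
  have hψ' : Spec.map ψ' = lj := Spec.map_preimage lj
  have hcomm : al ≫ ψ' = CommRingCat.ofHom (algebraMap k T) := by
    apply Spec.map_injective
    rw [Spec.map_comp, hψ', hal]
    change lj ≫ j ≫ V.hom = _
    rw [← Category.assoc, hlj]
    exact Over.w l
  let ψ : (Q : Type u) →ₐ[k] T :=
    { ψ'.hom with
      commutes' := fun r => by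
        have := congrArg (fun z => z.hom r) hcomm
        exact this }
  have hψ : CommRingCat.ofHom ψ.toRingHom = ψ' := rfl
  let J : sp k Q ⟶ V := Over.homMk j (by
    change j ≫ V.hom = Spec.map al
    rw [hal])
  have hJl : spMap ψ ≫ J = l := by
    ext1
    change Spec.map ψ' ≫ j = l.left
    rw [hψ', hlj]
  refine ⟨Q, inferInstance, inferInstance, hsm'.finitePresentation, hsm'.formallySmooth, ψ,
    PicF.pullCl (PicF.XTmap f J) d, PicLoc.isInvertibleCl_pullCl _ hd, ?_, ?_⟩
  · rw [hφ.natural _ _ J d hd, hde]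
    change Etale (j ≫ e.left)
    infer_instance
  · have hinv : PicF.IsInvertibleCl (PicF.pullCl (gE f ψ) (PicF.pullCl (PicF.XTmap f J) d)) :=
      PicLoc.isInvertibleCl_pullCl _ (PicLoc.isInvertibleCl_pullCl _ hd)
    refine eq_of_phi f T (Spec.map (CommRingCat.ofHom (algebraMap k T))) hφ _ c hinv hc ?_
    change φ (sp k T) (PicF.pullCl (PicF.XTmap f (spMap ψ)) (PicF.pullCl (PicF.XTmap f J) d)) = φ (sp k T) c
    rw [← pull_comp, hJl, hφ.natural _ _ l d hd, hde]
    exact hle

end K236.Chart
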